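import Groth.Agent.PicTors.Main
import Groth.Agent.PicFin.TauLocus
import Groth.Agent.PicBdd.NumBdd
import Groth.Agent.PicBdd.TauBdd
import Groth.Agent.S14811
import Groth.Agent.S4277

/-!
# Numerical triviality on the fibres of a proper morphism
-/

set_option autoImplicit false
set_option backward.isDefEq.respectTransparency false
set_option backward.isDefEq.respectTransparency.types false
set_option linter.style.haveILetI false
set_option linter.unusedSectionVars false
set_option maxHeartbeats 1000000

universe u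

open CategoryTheory CategoryTheory.Limits AlgebraicGeometry

noncomputable section

namespace Groth.Agent.PicTau

/-- Numerical triviality is preserved by proper pullback. -/
theorem numTriv_pullback (k : Type u) [Field k] {X Y : Scheme.{u}} [X.Over (Spec (CommRingCat.of k))]
    [Y.Over (Spec (CommRingCat.of k))] [IsProper (X ↘ Spec (CommRingCat.of k))] [IsProper (Y ↘ Spec (CommRingCat.of k))]
    (g : Y ⟶ X) [IsProper g] (hg : g ≫ (X ↘ Spec (CommRingCat.of k)) = Y ↘ Spec (CommRingCat.of k))
    {L : X.Modules} (hL : PicF.IsInvertible L) (h : Pic13.IsNumEquivZero k X L) :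
    Pic13.IsNumEquivZero k Y ((Scheme.Modules.pullback g).obj L) :=
  Nakai.isNumEquivZero_of_degFlat k (PicLoc.isInvertible_pullback g hL) (PicTors.degFlat_pullback k g hg hL h)

theorem numTriv_congr (k : Type u) [Field k] {X : Scheme.{u}} [X.Over (Spec (CommRingCat.of k))]
    [IsProper (X ↘ Spec (CommRingCat.of k))] {L M : X.Modules} (hL : PicF.IsInvertible L) (e : L ≅ M)
    (h : Pic13.IsNumEquivZero k X L) : Pic13.IsNumEquivZero k X M := by
  have hM : PicF.IsInvertible M := PicBdd.isInvertible_iso e hL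
  refine Nakai.isNumEquivZero_of_degFlat k hM fun F hF hd => ?_
  rw [Nakai.D_one, ← CurveRR.euler_eq_of_iso (PicGrp.tensorModIso (Iso.refl F) e), ← Nakai.D_one]
  exact PicBdd.degFlat_of_num k hL h F hF hd

variable {X S : Scheme.{u}} (f : X ⟶ S) [IsProper f] (L : X.Modules)

/-- `L` is numerically trivial on the fibre over `s`. -/
def NumAt (s : S) : Prop :=
  @Pic13.IsNumEquivZero (S.residueField s) _ (f.fiber s) ⟨f.fiberToSpecResidueField s⟩
    ((Scheme.Modules.pullback (f.fiberι s)).obj L)

variable {L}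

/-- Numerical triviality on a fibre can be tested at any field-valued point over it. -/
theorem numAt_iff (hL : PicF.IsInvertible L) {Ω : Type u} [Field Ω] {σ : Spec (CommRingCat.of Ω) ⟶ S} {W : Scheme.{u}}
    {a : W ⟶ X} {b : W ⟶ Spec (CommRingCat.of Ω)} (h : IsPullback a b f σ) {s : S} (hs : s ∈ Set.range σ.base) :
    @Pic13.IsNumEquivZero Ω _ W ⟨b⟩ ((Scheme.Modules.pullback a).obj L) ↔ NumAt f L s := by
  let κ := S.residueField s
  letI : (f.fiber s).Over (Spec (CommRingCat.of ↥κ)) := ⟨f.fiberToSpecResidueField s⟩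
  haveI : IsProper (f.fiber s ↘ Spec (CommRingCat.of ↥κ)) := inferInstanceAs (IsProper (pullback.snd _ _))
  letI : W.Over (Spec (CommRingCat.of Ω)) := ⟨b⟩
  haveI : IsProper (W ↘ Spec (CommRingCat.of Ω)) := MorphismProperty.of_isPullback (P := @IsProper) h inferInstance
  obtain ⟨α, hα⟩ : ∃ α : κ ⟶ CommRingCat.of Ω, σ = Spec.map α ≫ S.fromSpecResidueField s := by
    let e := (Scheme.SpecToEquivOfField Ω S) σ
    have he : e.1 = s := by
      obtain ⟨z, hz⟩ := hs
      have h1 : e.1 = σ (IsLocalRing.closedPoint Ω) := rfl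
      haveI : Subsingleton (Spec (CommRingCat.of Ω)) := inferInstanceAs (Subsingleton (PrimeSpectrum Ω))
      rw [h1, ← hz, Subsingleton.elim (α := Spec (CommRingCat.of Ω)) (IsLocalRing.closedPoint Ω) z]
    refine ⟨(S.residueFieldCongr he).inv ≫ e.2, ?_⟩
    rw [Spec.map_comp, Category.assoc, Scheme.residueFieldCongr_inv, Scheme.residueFieldCongr_fromSpecResidueField]
    exact ((Scheme.SpecToEquivOfField Ω S).symm_apply_apply σ).symm
  letI : Algebra κ Ω := α.hom.toAlgebra
  let g := Spec.map (CommRingCat.ofHom (algebraMap κ Ω))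
  let f₀ := f.fiber s ↘ Spec (CommRingCat.of ↥κ)
  letI : (pullback f₀ g).Over (Spec (CommRingCat.of Ω)) := ⟨pullback.snd f₀ g⟩
  haveI : IsProper (pullback f₀ g ↘ Spec (CommRingCat.of Ω)) := inferInstanceAs (IsProper (pullback.snd f₀ g))
  have h2 : IsPullback (pullback.fst f₀ g ≫ f.fiberι s) (pullback.snd f₀ g) f σ := by
    have := (IsPullback.of_hasPullback f₀ g).paste_horiz (IsPullback.of_hasPullback f (S.fromSpecResidueField s))
    rwa [show g ≫ S.fromSpecResidueField s = σ from hα.symm] at this
  let e := h.isoIsPullback _ _ h2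
  have he₁ : e.hom ≫ pullback.fst f₀ g ≫ f.fiberι s = a := h.isoIsPullback_hom_fst _ _ _
  have he₂ : e.hom ≫ pullback.snd f₀ g = b := h.isoIsPullback_hom_snd _ _ _
  let M := (Scheme.Modules.pullback (pullback.fst f₀ g)).obj ((Scheme.Modules.pullback (f.fiberι s)).obj L)
  have hM : PicF.IsInvertible M := PicLoc.isInvertible_pullback _ (PicLoc.isInvertible_pullback _ hL)
  let c : (Scheme.Modules.pullback e.hom).obj M ≅ (Scheme.Modules.pullback a).obj L :=
    (Scheme.Modules.pullbackComp _ _).app _ ≪≫ (Scheme.Modules.pullbackComp _ _).app _ ≪≫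
      (Scheme.Modules.pullbackCongr (by rw [Category.assoc, he₁])).app L
  rw [NumAt, Groth.Agent.S14811.result ↥κ (f.fiber s) _ (PicLoc.isInvertible_pullback _ hL) Ω]
  constructor
  · intro hW
    have h3 := numTriv_pullback Ω e.inv (show e.inv ≫ b = pullback.snd f₀ g by rw [← he₂, e.inv_hom_id_assoc])
      (PicLoc.isInvertible_pullback a hL) hW
    exact numTriv_congr Ω (PicLoc.isInvertible_pullback _ (PicLoc.isInvertible_pullback a hL))
      ((Scheme.Modules.pullback e.inv).mapIso c.symm ≪≫ (Scheme.Modules.pullbackComp _ _).app _ ≪≫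
        (Scheme.Modules.pullbackCongr e.inv_hom_id).app _ ≪≫ (Scheme.Modules.pullbackId _).app _) h3
  · intro hZ
    exact numTriv_congr Ω (PicLoc.isInvertible_pullback _ hM) c (numTriv_pullback Ω e.hom he₂ hM hZ)

/-- Fibrewise numerical triviality commutes with base change. -/
theorem numAt_bc (hL : PicF.IsInvertible L) {X' S' : Scheme.{u}} {f' : X' ⟶ S'} [IsProper f'] {g : S' ⟶ S}
    {g' : X' ⟶ X} (h : IsPullback g' f' f g) (s' : S') :
    NumAt f' ((Scheme.Modules.pullback g').obj L) s' ↔ NumAt f L (g s') := by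
  let σ' := S'.fromSpecResidueField s'
  have h1 : IsPullback (f'.fiberι s') (f'.fiberToSpecResidueField s') f' σ' := IsPullback.of_hasPullback _ _
  have h2 : IsPullback (f'.fiberι s' ≫ g') (f'.fiberToSpecResidueField s') f (σ' ≫ g) := h1.paste_horiz h
  have hs' : s' ∈ Set.range σ'.base := ⟨IsLocalRing.closedPoint _, Scheme.fromSpecResidueField_apply s' _⟩
  have hs : g s' ∈ Set.range (σ' ≫ g).base := ⟨IsLocalRing.closedPoint _, by
    show g (σ' _) = _
    rw [Scheme.fromSpecResidueField_apply]⟩
  rw [← numAt_iff f hL h2 hs, ← numAt_iff f' (PicLoc.isInvertible_pullback g' hL) h1 hs']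
  letI : (f'.fiber s').Over (Spec (CommRingCat.of ↥(S'.residueField s'))) := ⟨f'.fiberToSpecResidueField s'⟩
  haveI : IsProper (f'.fiber s' ↘ Spec (CommRingCat.of ↥(S'.residueField s'))) :=
    inferInstanceAs (IsProper (pullback.snd _ _))
  let e := (Scheme.Modules.pullbackComp (f'.fiberι s') g').app L
  exact ⟨numTriv_congr ↥(S'.residueField s') (PicLoc.isInvertible_pullback _ (PicLoc.isInvertible_pullback _ hL)) e,
    numTriv_congr ↥(S'.residueField s') (PicLoc.isInvertible_pullback _ hL) e.symm⟩

/-- `τ`-triviality at a point is numerical triviality of the fibre. -/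
theorem isTauTrivialAt_iff (hL : PicF.IsInvertible L) (s : S) : Pic13.IsTauTrivialAt f L s ↔ NumAt f L s := by
  constructor
  · intro h
    let Ω := AlgebraicClosure (S.residueField s)
    let σ : Spec (CommRingCat.of Ω) ⟶ S :=
      Spec.map (CommRingCat.ofHom (algebraMap (S.residueField s) Ω)) ≫ S.fromSpecResidueField s
    have hσ : Set.range σ.base = {s} := by
      refine Set.Subset.antisymm ?_ (Set.singleton_subset_iff.2 ⟨IsLocalRing.closedPoint Ω, ?_⟩)
      · rintro _ ⟨z, rfl⟩
        exact Scheme.fromSpecResidueField_apply s _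
      · exact Scheme.fromSpecResidueField_apply s _
    letI : (pullback f σ).Over (Spec (CommRingCat.of Ω)) := ⟨pullback.snd f σ⟩
    haveI : IsProper (pullback f σ ↘ Spec (CommRingCat.of Ω)) := inferInstanceAs (IsProper (pullback.snd _ _))
    exact (numAt_iff f hL (IsPullback.of_hasPullback f σ) (by rw [hσ]; rfl)).1
      (Nakai.isNumEquivZero_of_degFlat Ω (PicLoc.isInvertible_pullback _ hL)
        (Nakai.degFlat_of_tau Ω (PicLoc.isInvertible_pullback _ hL) (h Ω σ hσ)))
  · intro h Ω _ _ σ hσ
    letI : (pullback f σ).Over (Spec (CommRingCat.of Ω)) := ⟨pullback.snd f σ⟩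
    haveI : IsProper (pullback f σ ↘ Spec (CommRingCat.of Ω)) := inferInstanceAs (IsProper (pullback.snd _ _))
    exact Groth.Agent.S4277.result Ω _ _ (PicLoc.isInvertible_pullback _ hL)
      ((numAt_iff f hL (IsPullback.of_hasPullback f σ) (by rw [hσ]; rfl)).2 h)

end Groth.Agent.PicTau
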