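import Groth.Agent.PicTau.Fibre
import Groth.Agent.DvrDom.Scheme
import Groth.Agent.Castel.MinDesc
import Groth.Agent.RedDvrSp.Basic
import Groth.Agent.Nakai.SemiAmple
import Groth.Agent.Nakai.FlatEuler

/-!
# Fibrewise numerical triviality is stable under generization
-/

set_option autoImplicit false
set_option backward.isDefEq.respectTransparency false
set_option backward.isDefEq.respectTransparency.types false
set_option linter.style.haveILetI false
set_option linter.unusedSectionVars false
set_option maxHeartbeats 1000000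

universe u

open CategoryTheory CategoryTheory.Limits AlgebraicGeometry IsLocalRing

noncomputable section

namespace Groth.Agent.PicTau

attribute [local instance] Groth.Agent.Nakai.clMonoid

/-- Proper pullback preserves fibrewise numerical triviality. -/
theorem numAt_comp {X' X S : Scheme.{u}} {f : X ⟶ S} [IsProper f] {f' : X' ⟶ S} [IsProper f'] (g : X' ⟶ X) [IsProper g]
    (hg : g ≫ f = f') {L : X.Modules} (hL : PicF.IsInvertible L) {s : S} (h : NumAt f L s) :
    NumAt f' ((Scheme.Modules.pullback g).obj L) s := by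
  let κ := S.residueField s
  letI : (f.fiber s).Over (Spec (CommRingCat.of ↥κ)) := ⟨f.fiberToSpecResidueField s⟩
  haveI : IsProper (f.fiber s ↘ Spec (CommRingCat.of ↥κ)) := inferInstanceAs (IsProper (pullback.snd _ _))
  letI : (f'.fiber s).Over (Spec (CommRingCat.of ↥κ)) := ⟨f'.fiberToSpecResidueField s⟩
  haveI : IsProper (f'.fiber s ↘ Spec (CommRingCat.of ↥κ)) := inferInstanceAs (IsProper (pullback.snd _ _))
  let φ : f'.fiber s ⟶ f.fiber s := pullback.lift (f'.fiberι s ≫ g) (f'.fiberToSpecResidueField s) (by
    rw [Category.assoc, hg]; exact pullback.condition)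
  have hφ : φ ≫ f.fiberι s = f'.fiberι s ≫ g := pullback.lift_fst _ _ _
  have hφ' : φ ≫ f.fiberToSpecResidueField s = f'.fiberToSpecResidueField s := pullback.lift_snd _ _ _
  haveI : IsProper (φ ≫ f.fiberToSpecResidueField s) := by rw [hφ']; exact inferInstanceAs (IsProper (pullback.snd _ _))
  haveI : IsProper (f.fiberToSpecResidueField s) := inferInstanceAs (IsProper (pullback.snd _ _))
  haveI : IsProper φ := IsProper.of_comp φ (f.fiberToSpecResidueField s)
  exact numTriv_congr ↥κ (PicLoc.isInvertible_pullback _ (PicLoc.isInvertible_pullback _ hL))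
    ((Scheme.Modules.pullbackComp _ _).app L ≪≫ (Scheme.Modules.pullbackCongr hφ).app L ≪≫
      ((Scheme.Modules.pullbackComp _ _).app L).symm)
    (numTriv_pullback ↥κ φ hφ' (PicLoc.isInvertible_pullback _ hL) h)

/-- Euler characteristics on a fibre where `L` is numerically trivial. -/
theorem eulerChar_eq_of_numAt {X S : Scheme.{u}} (f : X ⟶ S) [IsProper f] {L : X.Modules} (hL : PicF.IsInvertible L)
    {s : S} (h : NumAt f L s) :
    PerfAux.eulerChar f L s = PerfAux.eulerChar f (Coh.structureModule X) s := by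
  let κ := S.residueField s
  letI : (f.fiber s).Over (Spec (CommRingCat.of ↥κ)) := ⟨f.fiberToSpecResidueField s⟩
  haveI : IsProper (f.fiber s ↘ Spec (CommRingCat.of ↥κ)) := inferInstanceAs (IsProper (pullback.snd _ _))
  have hs : Set.range (S.fromSpecResidueField s).base = {s} := S.range_fromSpecResidueField s
  have e1 := PicFin.euler_geomPoint f κ _ hs (CurveRR.isCoh_of_inv hL).1
  have e2 := PicFin.euler_geomPoint f κ _ hs (CurveRR.isCoh_of_inv TMul.isInvertible_structureModule).1
  have hinv := PicLoc.isInvertible_pullback (f.fiberι s) hL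
  have hO := TMul.isInvertible_structureModule (X := f.fiber s)
  refine e1.symm.trans (Eq.trans ?_ e2)
  refine Eq.trans ?_ ((Nakai.inv_of_degFlat ↥κ hinv (PicBdd.degFlat_of_num ↥κ hinv h)
    (CurveRR.isCoh_of_inv hO)).trans (CurveRR.euler_eq_of_iso (DerPerf.pullUnitIso (f.fiberι s)).symm))
  exact CurveRR.euler_eq_of_iso (X := f.fiber s) (TMul.leftUnitIso _).symm

/-- Over a discrete valuation ring, numerical triviality passes from the closed to the generic fibre. -/
theorem numAt_generic_dvr {R : Type u} [CommRing R] [IsDomain R] [IsDiscreteValuationRing R] {X : Scheme.{u}}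
    (f : X ⟶ Spec (CommRingCat.of R)) [IsProper f] {L : X.Modules} (hL : PicF.IsInvertible L)
    (h : NumAt f L (closedPoint R)) {ξ : Spec (CommRingCat.of R)} (hξ : ξ.asIdeal = ⊥) : NumAt f L ξ := by
  let K := FractionRing R
  let σ := Spec.map (CommRingCat.ofHom (algebraMap R K))
  haveI : IsOpenImmersion σ := RedDvrSp.isOpenImmersion_fractionRing
  have hσ : Set.range σ.base = {ξ} := by
    haveI : Subsingleton (Spec (CommRingCat.of K)) := inferInstanceAs (Subsingleton (PrimeSpectrum K))
    have hpt : ∀ z, σ z = ξ := fun z => PrimeSpectrum.ext (by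
      show Ideal.comap (algebraMap R K) z.asIdeal = ξ.asIdeal
      rw [hξ, (Subsingleton.elim z (⟨⊥, Ideal.isPrime_bot⟩ : PrimeSpectrum K)), ← RingHom.ker_eq_comap_bot]
      exact (RingHom.injective_iff_ker_eq_bot _).1 (IsFractionRing.injective R K))
    exact Set.eq_singleton_iff_unique_mem.2 ⟨⟨closedPoint K, hpt _⟩, by rintro _ ⟨z, rfl⟩; exact hpt z⟩
  refine (numAt_iff f hL (IsPullback.of_hasPullback f σ) (by rw [hσ]; rfl)).1 ?_
  letI : (pullback f σ).Over (Spec (CommRingCat.of K)) := ⟨pullback.snd f σ⟩
  haveI : IsProper (pullback f σ ↘ Spec (CommRingCat.of K)) := inferInstanceAs (IsProper (pullback.snd _ _))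
  intro Y i hi hY hd
  haveI := hY
  letI : Y.Over (Spec (CommRingCat.of K)) := ⟨i ≫ pullback.snd f σ⟩
  haveI : IsProper (Y ↘ Spec (CommRingCat.of K)) := inferInstanceAs (IsProper (i ≫ pullback.snd f σ))
  haveI : CompactSpace Y := QuasiCompact.compactSpace_of_compactSpace (Y ↘ Spec (CommRingCat.of K))
  haveI : IsLocallyNoetherian X := LocallyOfFiniteType.isLocallyNoetherian f
  -- the closure of the curve
  let j := i ≫ pullback.fst f σ
  let ι := j.imageι
  haveI : IsIntegral j.image := Nakai.isIntegral_image j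
  let g := ι ≫ f
  have hsq : IsPullback (pullback.fst g σ) (pullback.snd g σ) g σ := IsPullback.of_hasPullback g σ
  have hjσ : j ≫ f = (i ≫ pullback.snd f σ) ≫ σ := by
    simp only [j, Category.assoc, pullback.condition]
  haveI : Flat g := Castel.flat_of_dominant g (by
    have hgen : genericPoint j.image = j.toImage (genericPoint Y) := by
      have hc : closure (Set.range j.toImage) = Set.univ := j.toImage.denseRange.closure_range
      have h1 : IsGenericPoint (j.toImage (genericPoint Y)) (Set.univ : Set j.image) := by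
        have := (genericPoint_spec Y).image j.toImage.continuous
        rwa [Set.image_univ, hc] at this
      exact ((genericPoint_spec j.image).eq h1)
    rw [hgen]
    show (f (ι (j.toImage (genericPoint Y)))).asIdeal = ⊥
    rw [← Scheme.Hom.comp_apply j.toImage ι, Scheme.Hom.toImage_imageι, ← Scheme.Hom.comp_apply j f, hjσ,
      Scheme.Hom.comp_apply, show σ _ = ξ from hσ.le ⟨_, rfl⟩]
    exact hξ)
  let φ : Y ⟶ pullback g σ := pullback.lift j.toImage (i ≫ pullback.snd f σ) (by
    rw [← Category.assoc, Scheme.Hom.toImage_imageι, hjσ])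
  let m : pullback g σ ⟶ pullback f σ := pullback.map g σ f σ ι (𝟙 _) (𝟙 _) (by simp [g]) (by simp)
  have hφm : φ ≫ m = i := by
    apply pullback.hom_ext <;> simp [φ, m, j, ι]
  haveI : IsClosedImmersion m :=
    MorphismProperty.pullbackMap (P := @IsClosedImmersion) inferInstance inferInstance (by simp [g]) (by simp)
  haveI : IsClosedImmersion (φ ≫ m) := by rw [hφm]; infer_instance
  haveI : IsClosedImmersion φ := IsClosedImmersion.of_comp φ m
  haveI : IsReduced (pullback g σ) := isReduced_of_isOpenImmersion (pullback.fst g σ)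
  haveI : Surjective φ := ⟨fun w => by
    have h1 : ι (pullback.fst g σ w) ∈ closure (Set.range j) := by
      have h3 : ι (pullback.fst g σ w) ∈ Set.range ι := ⟨_, rfl⟩
      rwa [Scheme.IdealSheafData.range_subschemeι, Scheme.Hom.support_ker] at h3
    have h2 : m w ∈ Set.range i := by
      rw [← i.isClosedEmbedding.isClosed_range.closure_eq,
        (pullback.fst f σ).isEmbedding.isInducing.closure_eq_preimage_closure_image, Set.mem_preimage]
      rw [← Scheme.Hom.comp_apply m, show m ≫ pullback.fst f σ = pullback.fst g σ ≫ ι from pullback.lift_fst _ _ _,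
        Scheme.Hom.comp_apply, ← Set.range_comp]
      exact h1
    obtain ⟨y, hy⟩ := h2
    exact ⟨y, m.isClosedEmbedding.injective (by rw [← Scheme.Hom.comp_apply, hφm, hy])⟩⟩
  haveI : IsIso φ := isIso_of_isClosedImmersion_of_surjective φ
  haveI : LocallyOfFinitePresentation g := inferInstance
  -- the Euler characteristics of the family
  let M := (Scheme.Modules.pullback ι).obj L
  have hM : PicF.IsInvertible M := PicLoc.isInvertible_pullback ι hL
  have hlc : ∀ {N : j.image.Modules}, PicF.IsInvertible N → IsLocallyConstant (PerfAux.eulerChar g N) := fun {N} hN => by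
    refine BettiNN.isLocallyConstant_eulerChar g (LocFree.isFP_of_isFinLocFree (ResDesc.isFinLocFree_of_isInvertible hN)) ?_
    exact fun x => FlatLimMod.isFlatOverAt_of_iso _ (TMul.leftUnitIso N)
      (LefRel.isFlatOver_tensor g hN (SchDense.isFlatOver_unit g) x)
  have hO := TMul.isInvertible_structureModule (X := j.image)
  have heq : PerfAux.eulerChar g M ξ = PerfAux.eulerChar g (Coh.structureModule j.image) ξ := by
    rw [(hlc hM).apply_eq_of_preconnectedSpace ξ (closedPoint R), (hlc hO).apply_eq_of_preconnectedSpace ξ (closedPoint R)]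
    exact eulerChar_eq_of_numAt g hM (numAt_comp ι rfl hL h)
  rw [← PicFin.euler_geomPoint g K σ hσ (CurveRR.isCoh_of_inv hM).1,
    ← PicFin.euler_geomPoint g K σ hσ (CurveRR.isCoh_of_inv hO).1] at heq
  letI : (pullback g σ).Over (Spec (CommRingCat.of K)) := ⟨pullback.snd g σ⟩
  haveI : IsProper (pullback g σ ↘ Spec (CommRingCat.of K)) := inferInstanceAs (IsProper (pullback.snd g σ))
  have hpush : ∀ (N : (pullback g σ).Modules), PicF.IsInvertible N →
      Curv2.euler K Y ((Scheme.Modules.pullback φ).obj N) = Curv2.euler K (pullback g σ) N := fun N hN => by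
    obtain ⟨e⟩ := SerrePn.nonempty_pushTwist φ (Coh.structureModule Y) hN
    obtain ⟨e'⟩ : Nonempty ((Scheme.Modules.pushforward φ).obj (Coh.structureModule Y) ≅ Coh.structureModule (pullback g σ)) :=
      Castel.nonempty_push_structure φ
    have hφ' : φ ≫ (pullback g σ ↘ Spec (CommRingCat.of K)) = Y ↘ Spec (CommRingCat.of K) := pullback.lift_snd _ _ _
    have h3 := CurveRR.Multi.euler_push K φ _ (CurveRR.isCoh_of_inv (PicLoc.isInvertible_pullback φ hN)).1
    refine Eq.trans ?_ (h3.symm.trans (CurveRR.euler_eq_of_iso ((Scheme.Modules.pushforward φ).mapIso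
      (TMul.leftUnitIso _).symm ≪≫ e.symm ≪≫ PicGrp.tensorModIso e' (Iso.refl _) ≪≫ TMul.leftUnitIso N)))
    exact congrArg (fun q : Y ⟶ Spec (CommRingCat.of K) => @Curv2.euler K _ Y ⟨q⟩ ((Scheme.Modules.pullback φ).obj N)) hφ'.symm
  haveI := CurveRR.isNoetherian_of_proper K Y
  have hd' : topologicalKrullDim Y ≤ ((1 : ℕ) : WithBot ℕ∞) := hd.le
  change FGA.eulerCharLE K Y ((Scheme.Modules.pullback i).obj ((Scheme.Modules.pullback (pullback.fst f σ)).obj L)) 1 -
    FGA.eulerCharLE K Y (Coh.structureModule Y) 1 = 0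
  rw [Intersect.eulerCharLE_eq K 1 hd', Intersect.eulerCharLE_eq K 1 hd', sub_eq_zero]
  refine (CurveRR.euler_eq_of_iso ((Scheme.Modules.pullbackComp _ _).app L ≪≫
      (Scheme.Modules.pullbackCongr (show i ≫ pullback.fst f σ = φ ≫ pullback.fst g σ ≫ ι by
        simp [φ, j, ι])).app L ≪≫ ((Scheme.Modules.pullbackComp _ _).app L).symm ≪≫
      (Scheme.Modules.pullback φ).mapIso ((Scheme.Modules.pullbackComp _ _).app L).symm)).trans ?_
  refine (hpush _ (PicLoc.isInvertible_pullback _ hM)).trans (heq.trans ((hpush _ (PicLoc.isInvertible_pullback _ hO)).symm.trans ?_))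
  exact CurveRR.euler_eq_of_iso ((Scheme.Modules.pullback φ).mapIso (DerPerf.pullUnitIso (pullback.fst g σ)) ≪≫
      DerPerf.pullUnitIso φ)

/-- **Stability under generization.** -/
theorem numAt_of_specializes {X S : Scheme.{u}} [IsLocallyNoetherian S] (f : X ⟶ S) [IsProper f] {L : X.Modules}
    (hL : PicF.IsInvertible L) {η s : S} (h : η ⤳ s) (hN : NumAt f L s) : NumAt f L η := by
  rcases eq_or_ne s η with rfl | hne
  · exact hN
  obtain ⟨A, g, hA, hgc, hg⟩ := DvrDom.exists_dvr_through (𝟙 S) η s h hne
  haveI := hA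
  let f' := pullback.snd f g
  haveI : IsProper f' := MorphismProperty.pullback_snd _ _ inferInstance
  let ξ : Spec (CommRingCat.of A) := ⟨⊥, Ideal.isPrime_bot⟩
  have hξ : g ξ = η := by
    have h2 : (Spec.map (CommRingCat.ofHom A.subtype) ≫ g) (closedPoint (S.residueField η)) = η := by
      rw [hg, Category.comp_id]
      exact Scheme.fromSpecResidueField_apply η _
    rw [Scheme.Hom.comp_apply] at h2
    refine (congrArg g ?_).trans h2
    refine PrimeSpectrum.ext ?_
    show ⊥ = Ideal.comap A.subtype (IsLocalRing.maximalIdeal (S.residueField η))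
    rw [IsLocalRing.maximalIdeal_eq_bot, ← RingHom.ker_eq_comap_bot]
    exact ((RingHom.injective_iff_ker_eq_bot _).1 Subtype.val_injective).symm
  rw [← hξ, ← numAt_bc f hL (IsPullback.of_hasPullback f g)]
  refine numAt_generic_dvr f' (PicLoc.isInvertible_pullback _ hL) ?_ rfl
  rw [numAt_bc f hL (IsPullback.of_hasPullback f g), hgc]
  exact hN

end Groth.Agent.PicTau
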