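import Groth.Agent.PicTau.Open
import Groth.Agent.PicBdd.Strata

/-!
# The `τ`-trivial locus of a proper morphism is open
-/

set_option autoImplicit false
set_option backward.isDefEq.respectTransparency false
set_option backward.isDefEq.respectTransparency.types false
set_option linter.style.haveILetI false
set_option linter.unusedSectionVars false
set_option maxHeartbeats 1000000

universe u

open CategoryTheory CategoryTheory.Limits AlgebraicGeometry TopologicalSpace IsLocalRing

noncomputable section

namespace Groth.Agent.PicTau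

open GeomFib (bcMap prj)

attribute [local instance] Groth.Agent.Nakai.clMonoid

/-- Numerical triviality spreads: projective family over an affine integral base. -/
theorem exists_open_affine_projective {A : Type u} [CommRing A] [IsDomain A] [IsNoetherianRing A] {X : Scheme.{u}}
    (f : X ⟶ Spec (CommRingCat.of A)) [IsProper f] {H : X.Modules} (hH : PicF.IsInvertible H)
    (hamp : ∀ (Ω : Type u) [Field Ω] [IsAlgClosed Ω] (σ : Spec (CommRingCat.of Ω) ⟶ Spec (CommRingCat.of A)),
      CohB1.IsAmple ((Scheme.Modules.pullback (pullback.fst f σ)).obj H))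
    {L : X.Modules} (hL : PicF.IsInvertible L) (hη : NumAt f L (genericPoint (Spec (CommRingCat.of A)))) :
    ∃ V : (Spec (CommRingCat.of A)).Opens, (V : Set (Spec (CommRingCat.of A))).Nonempty ∧ ∀ s ∈ V, NumAt f L s := by
  classical
  let Ω := AlgebraicClosure (FractionRing A)
  have hinj : Function.Injective (algebraMap A Ω) := by
    rw [IsScalarTower.algebraMap_eq A (FractionRing A) Ω]
    exact (algebraMap (FractionRing A) Ω).injective.comp (IsFractionRing.injective A (FractionRing A))
  let aΩ := Spec.map (CommRingCat.ofHom (algebraMap A Ω))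
  letI : (pullback f aΩ).Over (Spec (CommRingCat.of Ω)) := ⟨pullback.snd f aΩ⟩
  haveI : IsProper (pullback f aΩ ↘ Spec (CommRingCat.of Ω)) := inferInstanceAs (IsProper (pullback.snd f aΩ))
  haveI := CurveRR.isNoetherian_of_proper Ω (pullback f aΩ)
  haveI : Finite (irreducibleComponents ↥(pullback f aΩ)) :=
    NoetherianSpace.finite_irreducibleComponents.to_subtype
  letI := Fintype.ofFinite (irreducibleComponents ↥(pullback f aΩ))
  choose sT hsT using fun T : irreducibleComponents ↥(pullback f aΩ) =>
    GeomFib.exists_model_closed f T.1 (isClosed_of_mem_irreducibleComponents _ T.2)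
  let C : Subalgebra A Ω := Algebra.adjoin A ((Finset.univ.biUnion sT : Finset Ω) : Set Ω)
  have hC : ∀ T, ((sT T : Finset Ω) : Set Ω) ⊆ C := fun T x hx =>
    Algebra.subset_adjoin (Finset.mem_biUnion.2 ⟨T, Finset.mem_univ _, hx⟩)
  haveI : Algebra.FiniteType A ↥C := (Subalgebra.fg_iff_finiteType _).mp (Subalgebra.fg_adjoin_finset _)
  haveI : IsNoetherianRing ↥C := Algebra.FiniteType.isNoetherianRing A _
  let aC := Spec.map (CommRingCat.ofHom (algebraMap A ↥C))
  haveI : LocallyOfFiniteType aC := by
    rw [HasRingHomProperty.Spec_iff (P := @LocallyOfFiniteType)]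
    exact RingHom.finiteType_algebraMap.2 inferInstance
  let fC := pullback.snd f aC
  haveI : IsProper fC := MorphismProperty.pullback_snd _ _ inferInstance
  let LC := (Scheme.Modules.pullback (pullback.fst f aC)).obj L
  have hLC : PicF.IsInvertible LC := PicLoc.isInvertible_pullback _ hL
  let b := bcMap f (↥C) Ω
  let cΩ := Spec.map (CommRingCat.ofHom (algebraMap ↥C Ω))
  have hb : IsPullback b (pullback.snd f aΩ) fC cΩ := by
    refine IsPullback.of_right (h₁₂ := pullback.fst f aC) ?_ (pullback.lift_snd _ _ _) (IsPullback.of_hasPullback _ _)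
    rw [GeomFib.bcMap_fst, ← Spec.map_comp, ← CommRingCat.ofHom_comp, ← IsScalarTower.algebraMap_eq]
    exact IsPullback.of_hasPullback _ _
  let ηC := genericPoint (Spec (CommRingCat.of ↥C))
  have hcΩ : ∀ z, cΩ z = ηC := fun z => by
    haveI : Subsingleton (Spec (CommRingCat.of Ω)) := inferInstanceAs (Subsingleton (PrimeSpectrum Ω))
    refine PrimeSpectrum.ext ?_
    show Ideal.comap (algebraMap ↥C Ω) z.asIdeal = ηC.asIdeal
    rw [show ηC = ⟨⊥, Ideal.isPrime_bot⟩ from genericPoint_eq_bot_of_affine _,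
      Subsingleton.elim z (⟨⊥, Ideal.isPrime_bot⟩ : PrimeSpectrum Ω), ← RingHom.ker_eq_comap_bot]
    exact (RingHom.injective_iff_ker_eq_bot _).1 Subtype.val_injective
  have haC : aC ηC = genericPoint (Spec (CommRingCat.of A)) := by
    refine PrimeSpectrum.ext ?_
    show Ideal.comap (algebraMap A ↥C) ηC.asIdeal = _
    rw [show ηC = ⟨⊥, Ideal.isPrime_bot⟩ from genericPoint_eq_bot_of_affine _,
      show genericPoint (Spec (CommRingCat.of A)) = ⟨⊥, Ideal.isPrime_bot⟩ from genericPoint_eq_bot_of_affine _,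
      ← RingHom.ker_eq_comap_bot]
    exact (RingHom.injective_iff_ker_eq_bot _).1 (fun x y h => hinj (congrArg Subtype.val h))
  have hηC : NumAt fC LC ηC := (numAt_bc f hL (IsPullback.of_hasPullback f aC) ηC).2 (by rw [haC]; exact hη)
  let z : irreducibleComponents ↥(pullback f aΩ) → ↥(pullback f aC) := fun T => b T.2.1.genericPoint
  have hz : ∀ T, closure {z T} = closure (b '' T.1) := fun T => by
    have h1 := (T.2.1.isGenericPoint_genericPoint (isClosed_of_mem_irreducibleComponents _ T.2)).image b.continuous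
    exact h1
  have hpiece : ∀ T, ∃ V : (Spec (CommRingCat.of ↥C)).Opens, (V : Set (Spec (CommRingCat.of ↥C))).Nonempty ∧
      ∀ c ∈ V, NumAt (Devissage.Zi (z T) ≫ fC) ((Scheme.Modules.pullback (Devissage.Zi (z T))).obj LC) c := by
    intro T
    haveI := Devissage.Zi_isIntegral (z T)
    let i := Devissage.Zi (z T)
    refine exists_open_piece (i ≫ fC) (H := (Scheme.Modules.pullback (i ≫ pullback.fst f aC)).obj H)
      (PicLoc.isInvertible_pullback _ hH) (fun K _ _ σ => ?_) ?_ (PicLoc.isInvertible_pullback _ hLC)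
      (numAt_comp i rfl hLC hηC)
    · let mA : pullback (i ≫ fC) σ ⟶ pullback fC σ := pullback.map (i ≫ fC) σ fC σ i (𝟙 _) (𝟙 _) (by simp) (by simp)
      haveI : IsClosedImmersion mA :=
        MorphismProperty.pullbackMap (P := @IsClosedImmersion) inferInstance inferInstance (by simp) (by simp)
      have hW := (IsPullback.of_hasPullback fC σ).paste_horiz (IsPullback.of_hasPullback f aC)
      let e := hW.isoIsPullback _ _ (IsPullback.of_hasPullback f (σ ≫ aC))
      have he : (mA ≫ e.hom) ≫ pullback.fst f (σ ≫ aC) = pullback.fst (i ≫ fC) σ ≫ i ≫ pullback.fst f aC := by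
        rw [Category.assoc, hW.isoIsPullback_hom_fst _ _ _, ← Category.assoc, pullback.lift_fst, Category.assoc]
      exact TMul.isAmple_congr ((Scheme.Modules.pullbackComp _ _).app H ≪≫
          (Scheme.Modules.pullbackCongr he).app H ≪≫ ((Scheme.Modules.pullbackComp _ _).app H).symm)
        (TMul.isAmple_pullback_of_isAffineHom (mA ≫ e.hom) (hamp K (σ ≫ aC)))
    · rw [(GeomFib.nGeom_eq (i ≫ fC) cΩ ηC (hcΩ _)).1, ← GeomFib.irreducibleSpace_iff_encard]
      have hP : IsPullback (pullback.fst i b) (pullback.snd i b ≫ pullback.snd f aΩ) (i ≫ fC) cΩ :=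
        (IsPullback.of_hasPullback i b).paste_vert hb
      let e := hP.isoIsPullback _ _ (IsPullback.of_hasPullback (i ≫ fC) cΩ)
      refine (e.hom.homeomorph.irreducibleSpace_iff).mp ?_
      refine PicBdd.irreducibleSpace_of_range (pullback.snd i b).isEmbedding.isInducing T.2.1 ?_
      rw [Scheme.Pullback.range_snd, Devissage.range_Zi, hz]
      exact hsT T C (hC T)
  choose V hV hVN using hpiece
  -- components not dominating
  haveI : IsNoetherian (pullback f aC) := by
    haveI : IsLocallyNoetherian (pullback f aC) := LocallyOfFiniteType.isLocallyNoetherian fC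
    haveI : CompactSpace (pullback f aC : Scheme.{u}) := QuasiCompact.compactSpace_of_compactSpace fC
    exact {}
  let bad := {W ∈ irreducibleComponents ↥(pullback f aC) | ∀ T, ¬ W ⊆ closure {z T}}
  have hbad : bad.Finite := NoetherianSpace.finite_irreducibleComponents.subset fun W hW => hW.1
  let E : Set (Spec (CommRingCat.of ↥C)) := ⋃ W ∈ bad, fC '' W
  have hE : IsClosed E := hbad.isClosed_biUnion fun W hW =>
    fC.isClosedMap _ (isClosed_of_mem_irreducibleComponents _ hW.1)
  have hηE : ηC ∉ E := by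
    intro h
    obtain ⟨W, hW, x, hx, hxη⟩ := Set.mem_iUnion₂.1 h
    let hg := hW.1.1.isGenericPoint_genericPoint (isClosed_of_mem_irreducibleComponents _ hW.1)
    let w := hW.1.1.genericPoint
    have hwη : fC w = ηC := by
      have h1 : fC w ⤳ ηC := hxη ▸ (hg.specializes hx).map fC.continuous
      exact (h1.antisymm (genericPoint_specializes _)).eq
    obtain ⟨p, hp, -⟩ := Scheme.Pullback.exists_preimage_pullback w (closedPoint Ω)
      (hwη.trans (hcΩ _).symm)
    let q := hb.isoPullback.inv p
    have hq : b q = w := by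
      rw [← Scheme.Hom.comp_apply, hb.isoPullback_inv_fst]; exact hp
    refine hW.2 ⟨irreducibleComponent q, irreducibleComponent_mem_irreducibleComponents q⟩ ?_
    have hw : w ∈ closure {z ⟨irreducibleComponent q, irreducibleComponent_mem_irreducibleComponents q⟩} := by
      rw [hz]
      exact subset_closure ⟨q, mem_irreducibleComponent, hq⟩
    intro y hy
    exact (hg.specializes hy).mem_closed isClosed_closure hw
  let VC : (Spec (CommRingCat.of ↥C)).Opens := (⟨⋂ T, (V T : Set (Spec (CommRingCat.of ↥C))), isOpen_iInter_of_finite fun T => (V T).2⟩ : (Spec (CommRingCat.of ↥C)).Opens) ⊓ ⟨Eᶜ, hE.isOpen_compl⟩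
  have hηV : ηC ∈ VC := by
    refine ⟨?_, hηE⟩
    refine Set.mem_iInter.2 fun T => ((genericPoint_spec _).mem_open_set_iff (V T).2).2 (by simpa using hV T)
  have hVC : ∀ c ∈ VC, NumAt f L (aC c) := by
    intro c hc
    refine (numAt_bc f hL (IsPullback.of_hasPullback f aC) c).1 ?_
    refine numAt_of_cover fC hLC
      (fun T : irreducibleComponents ↥(pullback f aΩ) => (Scheme.IdealSheafData.vanishingIdeal (Devissage.Zc (z T))).subscheme)
      (fun T => Devissage.Zi (z T)) (fun x hx => ?_) fun T => hVN T c ?_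
    · by_contra hno
      push_neg at hno
      refine hc.2 (Set.mem_iUnion₂.2 ⟨irreducibleComponent x, ⟨irreducibleComponent_mem_irreducibleComponents x,
        fun T hT => hno T ?_⟩, x, mem_irreducibleComponent, hx⟩)
      rw [Devissage.range_Zi]
      exact hT mem_irreducibleComponent
    · exact Set.mem_iInter.1 hc.1 T
  obtain ⟨U, hU, hflat, hlfp⟩ := GenFree.exists_dense_flat_fp aC
  haveI := hflat
  haveI := hlfp
  have hηU : genericPoint (Spec (CommRingCat.of A)) ∈ U :=
    ((genericPoint_spec _).mem_open_set_iff U.2).2 (by simpa using hU.nonempty)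
  refine ⟨⟨U.ι '' ((aC ∣_ U) '' ((aC ⁻¹ᵁ U).ι ⁻¹' (VC : Set _))),
    U.ι.isOpenEmbedding.isOpenMap _ ((aC ∣_ U).isOpenMap _ (VC.2.preimage (aC ⁻¹ᵁ U).ι.continuous))⟩, ?_, ?_⟩
  · exact ⟨_, _, ⟨⟨ηC, show aC ηC ∈ U from haC.symm ▸ hηU⟩, hηV, rfl⟩, rfl⟩
  · rintro s ⟨_, ⟨c, hc, rfl⟩, rfl⟩
    rw [← Scheme.Hom.comp_apply, morphismRestrict_ι, Scheme.Hom.comp_apply]
    exact hVC _ hc

/-- Numerical triviality spreads over an affine integral base. -/
theorem exists_open_affine {A : Type u} [CommRing A] [IsDomain A] [IsNoetherianRing A] {X : Scheme.{u}}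
    (f : X ⟶ Spec (CommRingCat.of A)) [IsProper f] {L : X.Modules} (hL : PicF.IsInvertible L)
    (hη : NumAt f L (genericPoint (Spec (CommRingCat.of A)))) :
    ∃ V : (Spec (CommRingCat.of A)).Opens, (V : Set (Spec (CommRingCat.of A))).Nonempty ∧ ∀ s ∈ V, NumAt f L s := by
  haveI : IsLocallyNoetherian X := LocallyOfFiniteType.isLocallyNoetherian f
  haveI : CompactSpace X := QuasiCompact.compactSpace_of_compactSpace f
  haveI : IsNoetherian X := {}
  haveI : QuasiSeparatedSpace X := inferInstance
  obtain ⟨N, X', π, j, hj, hjt, hπ, hsurj, -⟩ :=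
    Chow.exists_chow f NoetherianSpace.finite_irreducibleComponents
  haveI := hj
  haveI := hπ
  haveI := hsurj
  haveI : IsProper (CohB1.ProjSpaceOver.toBase N (Spec (CommRingCat.of A))) := Chow.isProper_toBase N _
  haveI : IsProper (j ≫ CohB1.ProjSpaceOver.toBase N (Spec (CommRingCat.of A))) := by rw [hjt]; infer_instance
  haveI : IsProper j := IsProper.of_comp j (CohB1.ProjSpaceOver.toBase N (Spec (CommRingCat.of A)))
  haveI : IsClosedImmersion j := IsClosedImmersion.of_isPreimmersion j j.isClosedMap.isClosed_range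
  obtain ⟨V, hV, hVN⟩ := exists_open_affine_projective (π ≫ f)
    (H := (Scheme.Modules.pullback j).obj (Twist.twistOver N (Spec (CommRingCat.of A)) 1))
    (PicLoc.isInvertible_pullback j (PicLoc.isInvertible_pullback _ (CohFinite.isInvertible_twist N (ULift.{u} ℤ) 1)))
    (fun Ω _ _ σ => PicFin.isAmple_geomFibre (π ≫ f) N j hjt Ω σ)
    (PicLoc.isInvertible_pullback π hL) (numAt_comp π rfl hL hη)
  exact ⟨V, hV, fun s hs => numAt_of_surjective π rfl hL (hVN s hs)⟩

/-- Openness from generization and spreading. -/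
theorem isOpen_of_spread {α : Type u} [TopologicalSpace α] [NoetherianSpace α] [QuasiSober α] {T : Set α}
    (h1 : ∀ ⦃x y : α⦄, x ⤳ y → y ∈ T → x ∈ T)
    (h2 : ∀ t ∈ T, ∃ O : Set α, IsOpen O ∧ t ∈ O ∧ ∀ x ∈ O, t ⤳ x → x ∈ T) : IsOpen T := by
  rw [← isClosed_compl_iff, ← closure_subset_iff_isClosed]
  intro x hx hxT
  let D := closure (Tᶜ : Set α)
  haveI : NoetherianSpace D := inferInstance
  have hfin := NoetherianSpace.finite_irreducibleComponents (α := D)
  haveI : QuasiSober D := (isClosed_closure.isClosedEmbedding_subtypeVal).quasiSober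
  let xD : D := ⟨x, hx⟩
  let Z := irreducibleComponent xD
  have hZ : Z ∈ irreducibleComponents D := irreducibleComponent_mem_irreducibleComponents xD
  have hg := hZ.1.isGenericPoint_genericPoint (isClosed_of_mem_irreducibleComponents _ hZ)
  let η := hZ.1.genericPoint
  have hηT : η.1 ∈ T := h1 ((hg.specializes mem_irreducibleComponent).map continuous_subtype_val) hxT
  obtain ⟨O, hO, hηO, hOT⟩ := h2 _ hηT
  let R := ⋃ W ∈ irreducibleComponents D \ {Z}, W
  have hR : IsClosed R := (hfin.subset Set.sdiff_subset).isClosed_biUnion fun W hW =>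
    isClosed_of_mem_irreducibleComponents _ hW.1
  have hηR : η ∉ R := fun h => by
    obtain ⟨W, hW, hηW⟩ := Set.mem_iUnion₂.1 h
    have hsub : Z ⊆ W := fun y hy => (hg.specializes hy).mem_closed (isClosed_of_mem_irreducibleComponents _ hW.1) hηW
    exact hW.2 ((hW.1.1 |> fun h' => (hZ.2 h' hsub).antisymm hsub))
  obtain ⟨U, hU, hUR⟩ := isOpen_induced_iff.1 hR.isOpen_compl
  have hηU : η.1 ∈ U := by
    have : η ∈ Subtype.val ⁻¹' U := by rw [hUR]; exact hηR
    exact this
  obtain ⟨y, ⟨hyO, hyU⟩, hy⟩ := mem_closure_iff.1 η.2 (O ∩ U) (hO.inter hU) ⟨hηO, hηU⟩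
  let yD : D := ⟨y, subset_closure hy⟩
  have hyR : yD ∉ R := by
    have : yD ∈ (Rᶜ : Set D) := by rw [← hUR]; exact hyU
    exact this
  have hyZ : irreducibleComponent yD = Z := by
    by_contra h
    exact hyR (Set.mem_iUnion₂.2 ⟨_, ⟨irreducibleComponent_mem_irreducibleComponents yD, h⟩, mem_irreducibleComponent⟩)
  exact hy (hOT y hyO ((hg.specializes (hyZ ▸ mem_irreducibleComponent)).map continuous_subtype_val))

/-- **The locus of fibrewise numerical triviality is open.** -/
theorem isOpen_numAt {X S : Scheme.{u}} [IsNoetherian S] (f : X ⟶ S) [IsProper f] {L : X.Modules}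
    (hL : PicF.IsInvertible L) : IsOpen {s : S | NumAt f L s} := by
  refine isOpen_of_spread (fun x y hxy hy => numAt_of_specializes f hL hxy hy) fun t ht => ?_
  haveI := Devissage.Zi_isIntegral t
  let i := Devissage.Zi t
  haveI : IsLocallyNoetherian (Scheme.IdealSheafData.vanishingIdeal (Devissage.Zc t)).subscheme :=
    LocallyOfFiniteType.isLocallyNoetherian i
  let η := genericPoint (Scheme.IdealSheafData.vanishingIdeal (Devissage.Zc t)).subscheme
  have hi : i η = t := Devissage.genericPoint_Zi t
  obtain ⟨W, hW, hηW, -⟩ := exists_isAffineOpen_mem_and_subset (x := η) (U := ⊤) trivial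
  haveI : Nonempty W := ⟨⟨η, hηW⟩⟩
  let A := Γ((Scheme.IdealSheafData.vanishingIdeal (Devissage.Zc t)).subscheme, W)
  haveI : IsNoetherianRing A := IsLocallyNoetherian.component_noetherian ⟨W, hW⟩
  let m : Spec (CommRingCat.of A) ⟶ S := hW.fromSpec ≫ i
  haveI : IsOpenImmersion hW.fromSpec := hW.isOpenImmersion_fromSpec
  let f' := pullback.snd f m
  haveI : IsProper f' := MorphismProperty.pullback_snd _ _ inferInstance
  have hgen : hW.fromSpec (genericPoint (Spec (CommRingCat.of A))) = η := genericPoint_eq_of_isOpenImmersion hW.fromSpec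
  have hmη : m (genericPoint (Spec (CommRingCat.of A))) = t := by
    show i (hW.fromSpec _) = t
    rw [hgen, hi]
  obtain ⟨V, hV, hVN⟩ := exists_open_affine f' (PicLoc.isInvertible_pullback _ hL)
    ((numAt_bc f hL (IsPullback.of_hasPullback f m) _).2 (by rw [hmη]; exact ht))
  obtain ⟨O, hO, hOV⟩ := i.isClosedEmbedding.isInducing.isOpen_iff.1
    (hW.fromSpec.isOpenEmbedding.isOpenMap _ V.2)
  refine ⟨O, hO, ?_, fun x hxO htx => ?_⟩
  · have hηV : η ∈ i ⁻¹' O := by
      rw [hOV, ← hgen]
      exact ⟨_, ((genericPoint_spec _).mem_open_set_iff V.2).2 (by simpa using hV), rfl⟩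
    rw [← hi]
    exact hηV
  · obtain ⟨y, rfl⟩ : x ∈ Set.range i := by
      rw [Devissage.range_Zi]; exact specializes_iff_mem_closure.1 htx
    obtain ⟨v, hv, rfl⟩ : y ∈ hW.fromSpec '' (V : Set _) := hOV.le hxO
    exact (numAt_bc f hL (IsPullback.of_hasPullback f m) v).1 (hVN v hv)

end Groth.Agent.PicTau
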