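import Groth.Agent.PicTau.Generization
import Groth.Agent.GeomFib.Consequences
import Groth.Agent.GeomFib.Model
import Groth.Agent.GenFree.Scheme
import Groth.Agent.Chow.Cover

/-!
# Numerical triviality spreads from the generic fibre
-/

set_option autoImplicit false
set_option backward.isDefEq.respectTransparency false
set_option backward.isDefEq.respectTransparency.types false
set_option linter.style.haveILetI false
set_option linter.unusedSectionVars false
set_option maxHeartbeats 1000000

universe u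

open CategoryTheory CategoryTheory.Limits AlgebraicGeometry TopologicalSpace

noncomputable section

namespace Groth.Agent.PicTau

attribute [local instance] Groth.Agent.Nakai.clMonoid

/-- Over a connected base: flat, polarised, with irreducible geometric fibres. -/
theorem numAt_all_of_irreducible {Z S : Scheme.{u}} [IsNoetherian S] [PreconnectedSpace S] (g : Z ⟶ S) [IsProper g]
    [Flat g] {H : Z.Modules} (hH : PicF.IsInvertible H)
    (hamp : ∀ (Ω : Type u) [Field Ω] [IsAlgClosed Ω] (σ : Spec (CommRingCat.of Ω) ⟶ S),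
      CohB1.IsAmple ((Scheme.Modules.pullback (pullback.fst g σ)).obj H))
    (hirr : ∀ (Ω : Type u) [Field Ω] [IsAlgClosed Ω] (σ : Spec (CommRingCat.of Ω) ⟶ S),
      IrreducibleSpace (pullback g σ : Scheme.{u}))
    {L : Z.Modules} (hL : PicF.IsInvertible L) {η : S} (hη : NumAt g L η) (s : S) : NumAt g L s := by
  haveI : IsLocallyNoetherian Z := LocallyOfFiniteType.isLocallyNoetherian g
  haveI : LocallyOfFinitePresentation g := inferInstance
  let E : ℕ → ℕ → Z.Modules := fun m j => CohB1.tensorMod (CohB1.tensorPow L m) (CohB1.tensorPow H j)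
  have hE : ∀ m j, PicF.IsInvertible (E m j) := fun m j =>
    TMul.isInvertible_tensorMod (TMul.isInvertible_tensorPow hL m) (TMul.isInvertible_tensorPow hH j)
  have hlc : ∀ m j, IsLocallyConstant (PerfAux.eulerChar g (E m j)) := fun m j => by
    refine BettiNN.isLocallyConstant_eulerChar g
      (LocFree.isFP_of_isFinLocFree (ResDesc.isFinLocFree_of_isInvertible (hE m j))) ?_
    exact fun x => FlatLimMod.isFlatOverAt_of_iso _ (TMul.leftUnitIso (E m j))
      (LefRel.isFlatOver_tensor g (hE m j) (SchDense.isFlatOver_unit g) x)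
  have key : ∀ t : S, NumAt g L t ↔ ∀ m j, PerfAux.eulerChar g (E m j) t = PerfAux.eulerChar g (E 0 j) t := by
    intro t
    let Ω := AlgebraicClosure (S.residueField t)
    let σ : Spec (CommRingCat.of Ω) ⟶ S :=
      Spec.map (CommRingCat.ofHom (algebraMap (S.residueField t) Ω)) ≫ S.fromSpecResidueField t
    have hσ : Set.range σ.base = {t} := by
      refine Set.Subset.antisymm ?_ (Set.singleton_subset_iff.2 ⟨IsLocalRing.closedPoint Ω, ?_⟩)
      · rintro _ ⟨z, rfl⟩
        exact Scheme.fromSpecResidueField_apply t _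
      · exact Scheme.fromSpecResidueField_apply t _
    letI : (pullback g σ).Over (Spec (CommRingCat.of Ω)) := ⟨pullback.snd g σ⟩
    haveI : IsProper (pullback g σ ↘ Spec (CommRingCat.of Ω)) := inferInstanceAs (IsProper (pullback.snd g σ))
    haveI := hirr Ω σ
    let Y := pullback g σ
    let L₀ := (Scheme.Modules.pullback (pullback.fst g σ)).obj L
    let H₀ := (Scheme.Modules.pullback (pullback.fst g σ)).obj H
    have hL₀ : PicF.IsInvertible L₀ := PicLoc.isInvertible_pullback _ hL
    have hH₀ : CohB1.IsAmple H₀ := hamp Ω σ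
    have hcl : ∀ m j, PicF.cl ((Scheme.Modules.pullback (pullback.fst g σ)).obj (E m j)) =
        PicF.cl (CohB1.tensorMod (CohB1.tensorPow L₀ m) (CohB1.tensorPow H₀ j)) := fun m j =>
      PicFin.cl_pull_pow_mul _ L H m j
    have h0 : ∀ j, PicF.cl (CohB1.tensorMod (CohB1.tensorPow L₀ 0) (CohB1.tensorPow H₀ j)) =
        PicF.cl (CohB1.tensorPow H₀ j) := fun j => by
      rw [Nakai.cl_tensor, Nakai.cl_pow _ 0, pow_zero, one_mul]
    have hχ : ∀ m j, PerfAux.eulerChar g (E m j) t =
        Curv2.euler Ω Y (CohB1.tensorMod (CohB1.tensorPow L₀ m) (CohB1.tensorPow H₀ j)) := fun m j =>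
      (PicFin.euler_geomPoint g Ω σ hσ (CurveRR.isCoh_of_inv (hE m j)).1).symm.trans (Nakai.euler_congr Ω (hcl m j))
    rw [← numAt_iff g hL (IsPullback.of_hasPullback g σ) (by rw [hσ]; rfl)]
    constructor
    · intro h m j
      rw [hχ, hχ, Nakai.euler_congr Ω (h0 j)]
      exact (Nakai.euler_congr Ω (by rw [Nakai.cl_tensor, Nakai.cl_tensor, mul_comm])).trans
        (Nakai.inv_of_degFlat Ω (TMul.isInvertible_tensorPow hL₀ m)
          ((PicBdd.degFlat_of_num Ω hL₀ h).pow Ω hL₀ m) (CurveRR.isCoh_of_inv (TMul.isInvertible_tensorPow hH₀.1 j)))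
    · intro h
      obtain ⟨d, hd⟩ := Nakai.exists_dim_bound Ω (X := Y)
      refine Nakai.isNumEquivZero_of_degFlat Ω hL₀ (Nakai.degFlat_of_tau Ω hL₀
        (GenMember.isTau_of_euler d hd hH₀ hL₀ fun m j => ?_))
      rw [Intersect.eulerCharLE_eq Ω d hd, Intersect.eulerCharLE_eq Ω d hd, ← hχ, h m j, hχ,
        Nakai.euler_congr Ω (h0 j)]
  rw [key]
  intro m j
  rw [(hlc m j).apply_eq_of_preconnectedSpace s η, (hlc 0 j).apply_eq_of_preconnectedSpace s η]
  exact (key η).1 hη m j

/-- One integral closed piece with geometrically irreducible generic fibre. -/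
theorem exists_open_piece {Z S : Scheme.{u}} [IsNoetherian S] [IsIntegral S] (g : Z ⟶ S) [IsProper g]
    {H : Z.Modules} (hH : PicF.IsInvertible H)
    (hamp : ∀ (Ω : Type u) [Field Ω] [IsAlgClosed Ω] (σ : Spec (CommRingCat.of Ω) ⟶ S),
      CohB1.IsAmple ((Scheme.Modules.pullback (pullback.fst g σ)).obj H))
    (hirr : MoreMor.nGeomIrredComp g (genericPoint S) = 1)
    {L : Z.Modules} (hL : PicF.IsInvertible L) (hη : NumAt g L (genericPoint S)) :
    ∃ V : S.Opens, (V : Set S).Nonempty ∧ ∀ s ∈ V, NumAt g L s := by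
  obtain ⟨V₀, hV₀, hV₀'⟩ := GeomFib.exists_open_of_generic g
  haveI : IsLocallyNoetherian Z := LocallyOfFiniteType.isLocallyNoetherian g
  obtain ⟨U, hU', hflat, -⟩ := GenFree.exists_dense_flat_fp g
  have hU : (U : Set S).Nonempty := hU'.nonempty
  haveI := hflat
  let V := U ⊓ V₀
  have hV : (V : Set S).Nonempty := nonempty_preirreducible_inter U.2 V₀.2 hU hV₀
  have hηV : genericPoint S ∈ V := ((genericPoint_spec S).mem_open_set_iff V.2).2 (by simpa using hV)
  refine ⟨V, hV, fun s hs => ?_⟩
  haveI : IsIntegral (V : Scheme.{u}) := by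
    haveI : Nonempty (V : Scheme.{u}) := hV.to_subtype
    exact isIntegral_of_isOpenImmersion V.ι
  haveI : IsNoetherian (V : Scheme.{u}) := by
    haveI : IsLocallyNoetherian (V : Scheme.{u}) := isLocallyNoetherian_of_isOpenImmersion V.ι
    haveI : NoetherianSpace (V : Scheme.{u}) := V.ι.isEmbedding.isInducing.noetherianSpace
    exact {}
  let g' := g ∣_ V
  have hsq : IsPullback (g ⁻¹ᵁ V).ι g' g V.ι := (isPullback_morphismRestrict g V).flip
  haveI : IsProper g' := MorphismProperty.of_isPullback (P := @IsProper) hsq inferInstance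
  haveI : Flat g' := by
    let Q := U.ι ⁻¹ᵁ V
    haveI : Flat (g ∣_ U ∣_ Q) := MorphismProperty.of_isPullback (P := @Flat)
      (isPullback_morphismRestrict (g ∣_ U) Q).flip hflat
    have h2 : Flat (g ∣_ (U.ι ''ᵁ Q)) :=
      (MorphismProperty.arrow_mk_iso_iff @Flat (morphismRestrictRestrict g U Q)).1 inferInstance
    rwa [Scheme.Hom.image_preimage_eq_opensRange_inf, Scheme.Opens.opensRange_ι,
      inf_eq_right.2 (inf_le_left : V ≤ U)] at h2
  have h := numAt_all_of_irreducible g' (H := (Scheme.Modules.pullback (g ⁻¹ᵁ V).ι).obj H)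
    (PicLoc.isInvertible_pullback _ hH) (fun Ω _ _ σ => ?_) (fun Ω _ _ σ => ?_)
    (PicLoc.isInvertible_pullback (g ⁻¹ᵁ V).ι hL) (η := ⟨genericPoint S, hηV⟩)
    ((numAt_bc g hL hsq (⟨genericPoint S, hηV⟩ : (V : Scheme.{u}))).2 hη) (⟨s, hs⟩ : (V : Scheme.{u}))
  · have h' := (numAt_bc g hL hsq (⟨s, hs⟩ : (V : Scheme.{u}))).1 h
    exact h'
  · have hW := (IsPullback.of_hasPullback g' σ).paste_horiz hsq
    let e := hW.isoIsPullback _ _ (IsPullback.of_hasPullback g (σ ≫ V.ι))
    exact TMul.isAmple_congr ((Scheme.Modules.pullbackComp _ _).app H ≪≫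
        (Scheme.Modules.pullbackCongr (hW.isoIsPullback_hom_fst _ _ _)).app H ≪≫
        ((Scheme.Modules.pullbackComp _ _).app H).symm)
      (TMul.isAmple_pullback_of_isAffineHom e.hom (hamp Ω (σ ≫ V.ι)))
  · let t := σ (IsLocalRing.closedPoint Ω)
    have h1 := (GeomFib.nGeom_eq g' σ t rfl).1
    rw [(GeomFib.nGeom_baseChange hsq t).1, (hV₀' (V.ι t) t.2.2).1, hirr] at h1
    exact GeomFib.irreducibleSpace_iff_encard.2 h1.symm

/-- Numerical triviality descends along surjections. -/
theorem numAt_of_surjective {X' X S : Scheme.{u}} {f : X ⟶ S} [IsProper f] {f' : X' ⟶ S} [IsProper f'] (g : X' ⟶ X)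
    [IsProper g] [Surjective g] (hg : g ≫ f = f') {L : X.Modules} (hL : PicF.IsInvertible L) {s : S}
    (h : NumAt f' ((Scheme.Modules.pullback g).obj L) s) : NumAt f L s := by
  let κ := S.residueField s
  letI : (f.fiber s).Over (Spec (CommRingCat.of ↥κ)) := ⟨f.fiberToSpecResidueField s⟩
  haveI : IsProper (f.fiber s ↘ Spec (CommRingCat.of ↥κ)) := inferInstanceAs (IsProper (pullback.snd _ _))
  letI : (f'.fiber s).Over (Spec (CommRingCat.of ↥κ)) := ⟨f'.fiberToSpecResidueField s⟩
  haveI : IsProper (f'.fiber s ↘ Spec (CommRingCat.of ↥κ)) := inferInstanceAs (IsProper (pullback.snd _ _))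
  let φ : f'.fiber s ⟶ f.fiber s := pullback.lift (f'.fiberι s ≫ g) (f'.fiberToSpecResidueField s) (by
    rw [Category.assoc, hg]; exact pullback.condition)
  have hφ : φ ≫ f.fiberι s = f'.fiberι s ≫ g := pullback.lift_fst _ _ _
  have hφ' : φ ≫ f.fiberToSpecResidueField s = f'.fiberToSpecResidueField s := pullback.lift_snd _ _ _
  have hsq : IsPullback φ (f'.fiberι s) (f.fiberι s) g := by
    refine IsPullback.flip (IsPullback.of_bot ?_ hφ.symm (IsPullback.of_hasPullback f (S.fromSpecResidueField s)))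
    rw [show φ ≫ pullback.snd f (S.fromSpecResidueField s) = f'.fiberToSpecResidueField s from hφ']
    subst hg
    exact IsPullback.of_hasPullback _ _
  haveI : Surjective φ := MorphismProperty.of_isPullback (P := @Surjective) hsq.flip inferInstance
  haveI : IsProper φ := MorphismProperty.of_isPullback (P := @IsProper) hsq.flip inferInstance
  let M := (Scheme.Modules.pullback (f.fiberι s)).obj L
  have hM : PicF.IsInvertible M := PicLoc.isInvertible_pullback _ hL
  have h' : Pic13.IsNumEquivZero ↥κ (f'.fiber s) ((Scheme.Modules.pullback φ).obj M) :=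
    numTriv_congr ↥κ (PicLoc.isInvertible_pullback _ (PicLoc.isInvertible_pullback _ hL))
      ((Scheme.Modules.pullbackComp _ _).app L ≪≫ (Scheme.Modules.pullbackCongr hφ.symm).app L ≪≫
        ((Scheme.Modules.pullbackComp _ _).app L).symm) h
  haveI := CurveRR.isNoetherian_of_proper ↥κ (f'.fiber s)
  refine Nakai.isNumEquivZero_of_degFlat ↥κ hM (GenMember.degFlat_of_curves (k := ↥κ) hM fun ξ hξ => ?_)
  obtain ⟨η, hη, c, hc, hcD⟩ := Nakai.exists_curve_over ↥κ φ hφ' hξ
  have h1 := PicBdd.degFlat_of_num ↥κ (PicLoc.isInvertible_pullback φ hM) h' (Devissage.A η) (Devissage.isCoh_A η)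
    ((Intersect.dim_mono (Devissage.support_A_subset η)).trans hη.le)
  rw [hcD M hM] at h1
  exact (mul_eq_zero.1 h1).resolve_left hc.ne'

/-- Numerical triviality on closed pieces covering a fibre. -/
theorem numAt_of_cover {X S : Scheme.{u}} (f : X ⟶ S) [IsProper f] {L : X.Modules} (hL : PicF.IsInvertible L) {s : S}
    {ι : Type u} (Z : ι → Scheme.{u}) (j : ∀ i, Z i ⟶ X) [∀ i, IsClosedImmersion (j i)]
    (hcov : ∀ x : X, f x = s → ∃ i, x ∈ Set.range (j i))
    (h : ∀ i, NumAt (j i ≫ f) ((Scheme.Modules.pullback (j i)).obj L) s) : NumAt f L s := by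
  intro Y y hy hY hd
  haveI := hY
  obtain ⟨i, z, hz⟩ := hcov (f.fiberι s (y (genericPoint Y))) ((f.range_fiberι s).le ⟨_, rfl⟩)
  let φ : (j i ≫ f).fiber s ⟶ f.fiber s := pullback.lift ((j i ≫ f).fiberι s ≫ j i)
    ((j i ≫ f).fiberToSpecResidueField s) (by rw [Category.assoc]; exact pullback.condition)
  have hφ : φ ≫ f.fiberι s = (j i ≫ f).fiberι s ≫ j i := pullback.lift_fst _ _ _
  have hφ' : φ ≫ f.fiberToSpecResidueField s = (j i ≫ f).fiberToSpecResidueField s := pullback.lift_snd _ _ _
  have hsq : IsPullback φ ((j i ≫ f).fiberι s) (f.fiberι s) (j i) := by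
    refine IsPullback.flip (IsPullback.of_bot ?_ hφ.symm (IsPullback.of_hasPullback f (S.fromSpecResidueField s)))
    rw [show φ ≫ pullback.snd f (S.fromSpecResidueField s) = (j i ≫ f).fiberToSpecResidueField s from hφ']
    exact IsPullback.of_hasPullback _ _
  haveI : IsClosedImmersion φ := MorphismProperty.of_isPullback (P := @IsClosedImmersion) hsq.flip inferInstance
  obtain ⟨w, hw, -⟩ := Scheme.Pullback.exists_preimage_pullback _ _ hz.symm
  have hwr : y (genericPoint Y) ∈ Set.range φ := ⟨hsq.isoPullback.inv w, by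
    rw [← Scheme.Hom.comp_apply, hsq.isoPullback_inv_fst]; exact hw⟩
  have hrange : Set.range y ⊆ Set.range φ := by
    rintro _ ⟨a, rfl⟩
    exact ((genericPoint_specializes a).map y.continuous).mem_closed φ.isClosedEmbedding.isClosed_range hwr
  let P := pullback y φ
  haveI : Surjective (pullback.fst y φ) := ⟨fun a => by
    obtain ⟨b, hb⟩ := hrange ⟨a, rfl⟩
    obtain ⟨w, hw, -⟩ := Scheme.Pullback.exists_preimage_pullback a b hb.symm
    exact ⟨w, hw⟩⟩
  haveI : IsIso (pullback.fst y φ) := isIso_of_isClosedImmersion_of_surjective _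
  let y' : Y ⟶ (j i ≫ f).fiber s := inv (pullback.fst y φ) ≫ pullback.snd y φ
  have hy' : y' ≫ φ = y := by
    simp only [y', Category.assoc, ← pullback.condition, IsIso.inv_hom_id_assoc]
  haveI : IsClosedImmersion (y' ≫ φ) := by rw [hy']; infer_instance
  haveI : IsClosedImmersion y' := IsClosedImmersion.of_comp y' φ
  have hnum := h i Y y' hY hd
  let e : (Scheme.Modules.pullback y').obj ((Scheme.Modules.pullback ((j i ≫ f).fiberι s)).obj
      ((Scheme.Modules.pullback (j i)).obj L)) ≅
      (Scheme.Modules.pullback y).obj ((Scheme.Modules.pullback (f.fiberι s)).obj L) :=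
    (Scheme.Modules.pullback y').mapIso ((Scheme.Modules.pullbackComp _ _).app L) ≪≫
      (Scheme.Modules.pullbackComp _ _).app L ≪≫
      (Scheme.Modules.pullbackCongr (show y' ≫ (j i ≫ f).fiberι s ≫ j i = y ≫ f.fiberι s by
        rw [← hφ, ← Category.assoc, hy'])).app L ≪≫ ((Scheme.Modules.pullbackComp _ _).app L).symm
  change Pic13.curveDeg (S.residueField s) (y ≫ f.fiberToSpecResidueField s) _ = 0
  change Pic13.curveDeg (S.residueField s) (y' ≫ (j i ≫ f).fiberToSpecResidueField s) _ = 0 at hnum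
  rw [← hy', Category.assoc, hφ']
  rw [Pic13.curveDeg] at hnum ⊢
  letI : Y.Over (Spec (CommRingCat.of ↥(S.residueField s))) := ⟨y' ≫ (j i ≫ f).fiberToSpecResidueField s⟩
  rw [← hnum]
  simp only [hy']
  haveI : IsProper ((j i ≫ f).fiberToSpecResidueField s) := inferInstanceAs (IsProper (pullback.snd _ _))
  haveI : IsProper (Y ↘ Spec (CommRingCat.of ↥(S.residueField s))) :=
    inferInstanceAs (IsProper (y' ≫ (j i ≫ f).fiberToSpecResidueField s))
  have hd' : topologicalKrullDim Y ≤ ((1 : ℕ) : WithBot ℕ∞) := hd.le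
  rw [Intersect.eulerCharLE_eq _ 1 hd', Intersect.eulerCharLE_eq _ 1 hd', Intersect.eulerCharLE_eq _ 1 hd',
    CurveRR.euler_eq_of_iso e]

end Groth.Agent.PicTau
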